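import Cfsg.Agent.Char.Codeg
import Cfsg.Agent.Grp.Cores
import Cfsg.Agent.Grp.Nilpotent
import Cfsg.Prelude.Def_CaseTheorems
import Mathlib.GroupTheory.IsPerfect

/-!
# From `p`-constraint of groups with a faithful character of prime power codegree to
quasisimple groups
-/

set_option autoImplicit false

namespace Cfsg.Agent.CodW

open Cfsg Subgroup
open scoped commutatorElement

universe u

/-- A normal subgroup of a quasisimple group is central or everything. -/
theorem le_center_or_eq_top {G : Type u} [Group G] (hG : IsQuasisimple G) (N : Subgroup G)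
    [hN : N.Normal] : N ≤ center G ∨ N = ⊤ := by
  have := hG.1
  have := hG.2
  have hn : (N.map (QuotientGroup.mk' (center G))).Normal :=
    hN.map _ (QuotientGroup.mk'_surjective _)
  rcases hn.eq_bot_or_eq_top with h | h
  · left
    rwa [Subgroup.map_eq_bot_iff, QuotientGroup.ker_mk'] at h
  · right
    have key : ∀ a : G, ∃ n ∈ N, ∃ z ∈ center G, a = n * z := by
      intro a
      have h1 : QuotientGroup.mk' (center G) a ∈ N.map (QuotientGroup.mk' (center G)) :=
        h ▸ mem_top _
      obtain ⟨n, hnN, hn⟩ := h1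
      refine ⟨n, hnN, n⁻¹ * a, ?_, by group⟩
      exact QuotientGroup.eq.1 hn
    rw [eq_top_iff, ← Group.IsPerfect.commutator_eq_top (G := G), _root_.commutator_def,
      commutator_le]
    intro a _ b _
    obtain ⟨n, hnN, z, hz, rfl⟩ := key a
    have h2 : ∀ g : G, g * z = z * g := mem_center_iff.1 hz
    have h3 : ⁅n * z, b⁆ = n * (b * n⁻¹ * b⁻¹) := by
      rw [commutatorElement_def, mul_assoc n z b, ← h2 b]
      group
    rw [h3]
    exact N.mul_mem hnN (hN.conj_mem _ (N.inv_mem hnN) b)

/-- The statement about quasisimple groups follows from the `p`-constraint of groups with a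
faithful irreducible character of `p`-power codegree. -/
theorem quasisimple_of_constrained
    (h : ∀ {H : Type u} [Group H] [Finite H] (p : ℕ) [Fact p.Prime] (ψ : IrrCharacter H),
      (∀ g : H, (ψ : H → ℂ) g = (ψ : H → ℂ) 1 → g = 1) →
      (∃ k : ℕ, Nat.card H = p ^ k * charDegree (ψ : H → ℂ)) →
      centralizer ((pCore p H : Subgroup H) : Set H) ≤ pCore p H)
    {G : Type u} [Group G] [Finite G] (hG : IsQuasisimple G) (χ : IrrCharacter G)
    (hχ : (χ : G → ℂ) ≠ fun _ => 1) :
    ¬ IsPrimePow (Nat.card G / (Nat.card {g : G // (χ : G → ℂ) g = (χ : G → ℂ) 1} *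
      charDegree (χ : G → ℂ))) := by
  intro hp
  obtain ⟨ψ, h1, h2⟩ := χ.exists_faithful_quotient
  have h3 := χ.codegree_mul
  have h4 : charDegree χ.1 = charDegree ψ.1 :=
    (congrArg charDegree h1).symm.trans (charDegree_comp _ _)
  generalize Nat.card G / (Nat.card {g : G // (χ : G → ℂ) g = (χ : G → ℂ) 1} *
    charDegree χ.1) = m at hp h3
  obtain ⟨p, k, hpp, -, rfl⟩ := (isPrimePow_nat_iff m).1 hp
  have : Fact p.Prime := ⟨hpp⟩
  have h5 := h p ψ (ψ.isCharacter.charKer_eq_bot_iff.1 h2) ⟨k, by rw [← h4, h3]; rfl⟩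
  have hK : charKer χ.1 ≠ ⊤ := fun hK => hχ (by
    rw [χ.charKer_eq_top_iff.1 hK]; rfl)
  have hsurj := QuotientGroup.mk'_surjective (charKer χ.1)
  have h6 : pCore p (G ⧸ charKer χ.1) = ⊤ := by
    rcases le_center_or_eq_top hG ((pCore p (G ⧸ charKer χ.1)).comap
      (QuotientGroup.mk' (charKer χ.1))) with h7 | h7
    · rw [eq_top_iff]
      intro a _
      apply h5
      rw [mem_centralizer_iff]
      intro b hb
      obtain ⟨a, rfl⟩ := hsurj a
      obtain ⟨b, rfl⟩ := hsurj b
      rw [← map_mul, ← map_mul, mem_center_iff.1 (h7 hb) a]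
    · rw [eq_top_iff]
      intro a _
      obtain ⟨a, rfl⟩ := hsurj a
      exact (h7 ▸ mem_top a : a ∈ (pCore p (G ⧸ charKer χ.1)).comap
        (QuotientGroup.mk' (charKer χ.1)))
  have h8 := isSolvable_of_isPGroup (pCore_eq_top_iff.1 h6)
  have := hG.1
  have : Nontrivial (G ⧸ charKer χ.1) := QuotientGroup.nontrivial_iff.2 hK
  exact Group.IsPerfect.not_isSolvable (G := G ⧸ charKer χ.1) h8

end Cfsg.Agent.CodW
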